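import Cfsg.Agent.H489.OutClassical
import Cfsg.Agent.H489.OutExc
import Cfsg.Agent.H489.OutNum2
import Cfsg.Prelude.Def_LieTypeChar

/-!
# S4906-A: `64 (|Out S| + 1) ^ 3 ≤ |S|` for the simple groups of Lie type (helper505)

All families but `PSL_2(q)`, `PSL_3(2)` and `PSL_3(4)`. The orders of `S` and `Out S` as in helper489's files.
-/

set_option autoImplicit false

namespace Cfsg.Agent.H505.S4906

open Subgroup Cfsg Cfsg.Lie Cfsg.Agent.H489

universe u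

/-- The bound `64 (|Out S| + 1) ^ 3 ≤ |S|`. -/
def OutSmall (S : Type*) [Group S] : Prop := 64 * (Nat.card (Cfsg.Out S) + 1) ^ 3 ≤ Nat.card S

theorem OutSmall.congr {S T : Type*} [Group S] [Group T] (e : S ≃* T) (h : OutSmall T) : OutSmall S := by
  unfold OutSmall at h ⊢
  rw [H55.OutGen.card_out_congr e, Nat.card_congr e.toEquiv]
  exact h

/-! ### numbers -/

/-- generic: `o + 1 ≤ c q ^ i`, `q ^ j ≤ c' N`. -/
theorem gen {q q0 o N c c' i j : ℕ} (hq : q0 ≤ q) (ho : o + 1 ≤ c * q ^ i) (hN : q ^ j ≤ c' * N)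
    (hij : i * 3 ≤ j) (h : 64 * c ^ 3 * c' ≤ 1 * q0 ^ (j - i * 3)) (hc' : 1 ≤ c') :
    64 * (o + 1) ^ 3 ≤ N := by
  have h1 : (64 * c ^ 3 * c') * q ^ (i * 3) ≤ 1 * q ^ j := Num.pow_helper hq hij h
  have h2 : (o + 1) ^ 3 ≤ c ^ 3 * q ^ (i * 3) := by
    rw [pow_mul, ← mul_pow]
    exact Nat.pow_le_pow_left ho 3
  have h4 : (64 * (o + 1) ^ 3) * c' ≤ N * c' := by
    calc (64 * (o + 1) ^ 3) * c' ≤ (64 * (c ^ 3 * q ^ (i * 3))) * c' := by gcongr
      _ = (64 * c ^ 3 * c') * q ^ (i * 3) := by ring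
      _ ≤ q ^ j := by rw [one_mul] at h1; exact h1
      _ ≤ c' * N := hN
      _ = N * c' := mul_comm _ _
  exact Nat.le_of_mul_le_mul_right h4 (by positivity)

/-- `q ^ 3 M ≤ d N` -/
theorem three_aux {q o d N M M0 a b : ℕ} (ho : b * (o + 1) ≤ a * q) (hN : q ^ 3 * M ≤ d * N) (hM : M0 ≤ M)
    (h : 64 * d * a ^ 3 ≤ b ^ 3 * M0) (hd : 0 < d) (hb : 0 < b) : 64 * (o + 1) ^ 3 ≤ N := by
  have h1 : (b * (o + 1)) ^ 3 ≤ (a * q) ^ 3 := Nat.pow_le_pow_left ho 3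
  have h2 : (b ^ 3 * d) * (64 * (o + 1) ^ 3) ≤ (b ^ 3 * d) * N := by
    calc (b ^ 3 * d) * (64 * (o + 1) ^ 3) = 64 * d * (b * (o + 1)) ^ 3 := by ring
      _ ≤ 64 * d * (a * q) ^ 3 := by gcongr
      _ = (64 * d * a ^ 3) * q ^ 3 := by ring
      _ ≤ (b ^ 3 * M0) * q ^ 3 := by gcongr
      _ ≤ (b ^ 3 * M) * q ^ 3 := by gcongr
      _ = b ^ 3 * (q ^ 3 * M) := by ring
      _ ≤ b ^ 3 * (d * N) := by gcongr
      _ = (b ^ 3 * d) * N := by ring
  exact Nat.le_of_mul_le_mul_left h2 (by positivity)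

/-- `PSL_3(q)`, `q ≠ 2, 4`. -/
theorem psl_three {q f d N : ℕ} (hf : 2 * f ≤ q) (hd : (d = 1 ∧ 3 ≤ q) ∨ (d = 3 ∧ 7 ≤ q))
    (hN : d * N = q ^ 3 * ((q ^ 2 - 1) * (q ^ 3 - 1))) : 64 * (2 * f * d + 1) ^ 3 ≤ N := by
  have mono : ∀ a : ℕ, a ≤ q → (a ^ 2 - 1) * (a ^ 3 - 1) ≤ (q ^ 2 - 1) * (q ^ 3 - 1) := by
    intro a ha
    have h2 := Num.mono_pow 2 ha
    have h3 := Num.mono_pow 3 ha
    gcongr
  rcases hd with ⟨rfl, h⟩ | ⟨rfl, h⟩
  · exact three_aux (a := 4) (b := 3) (by omega) hN.ge (mono 3 h) (by norm_num) (by norm_num) (by norm_num)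
  · exact three_aux (a := 22) (b := 7) (by omega) hN.ge (mono 7 h) (by norm_num) (by norm_num) (by norm_num)

/-- `PSU_3(q)`, `q ≥ 3`. -/
theorem psu_three {q f d N : ℕ} (hq : 3 ≤ q) (hf : 2 * f ≤ q) (hd : d = 1 ∨ (d = 3 ∧ (8 ≤ q ∨ (q = 5 ∧ f = 1))))
    (hN : d * N = q ^ 3 * ((q ^ 2 - 1) * (q ^ 3 + 1))) : 64 * (2 * f * d + 1) ^ 3 ≤ N := by
  have mono : ∀ a : ℕ, a ≤ q → (a ^ 2 - 1) * (a ^ 3 + 1) ≤ (q ^ 2 - 1) * (q ^ 3 + 1) := by
    intro a ha
    have h2 := Num.mono_pow 2 ha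
    have h3 := Num.mono_pow 3 ha
    gcongr
  rcases hd with rfl | ⟨rfl, h | ⟨rfl, rfl⟩⟩
  · exact three_aux (a := 4) (b := 3) (by omega) hN.ge (mono 3 hq) (by norm_num) (by norm_num) (by norm_num)
  · exact three_aux (a := 25) (b := 8) (by omega) hN.ge (mono 8 h) (by norm_num) (by norm_num) (by norm_num)
  · norm_num at hN ⊢
    omega

theorem gcd_three {a : ℕ} : Nat.gcd 3 a = 1 ∨ (Nat.gcd 3 a = 3 ∧ 3 ∣ a) := by
  rcases (Nat.dvd_prime Nat.prime_three).1 (Nat.gcd_dvd_left 3 a) with h | h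
  · exact Or.inl h
  · exact Or.inr ⟨h, h ▸ Nat.gcd_dvd_right 3 a⟩

/-! ### the classical groups -/

/-- **`PSL_n(q)`** -/
theorem small_psl {S : Type u} [Group S] [Finite S] [IsSimpleGroup S] (hna : ¬ IsMulCommutative S) {F : Type} [Field F]
    [Fintype F] {n : ℕ} (hn : 3 ≤ n) (h3 : n = 3 → Fintype.card F ≠ 2 ∧ Fintype.card F ≠ 4)
    (e : S ≃* Matrix.ProjectiveSpecialLinearGroup (Fin n) F) : OutSmall S := by
  obtain ⟨p, f, hp, hf, hF, h2f, hq⟩ := exists_pf F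
  have : Fact p.Prime := ⟨hp⟩
  have hA := S0813.result p f hf hF n (by omega) (fun h => absurd h (by omega))
  rw [card_pgl F (by omega), ← mul_assoc] at hA
  have ho := card_out_of hna e hA
  have hN := S0243.result (F := F) rfl n (by omega)
  rw [← Nat.card_congr e.toEquiv] at hN
  unfold OutSmall
  rw [ho]
  set q := Fintype.card F with hqdef
  have hfin : ∀ a b : ℕ, (q - 1) * a = (q - 1) * b → a = b := fun a b h => Nat.eq_of_mul_eq_mul_left (by omega) h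
  rw [if_neg (by omega)]
  rcases Nat.lt_or_ge n 4 with hn4 | hn4
  · obtain rfl : n = 3 := by omega
    have hN' : Nat.gcd 3 (q - 1) * Nat.card S = q ^ 3 * ((q ^ 2 - 1) * (q ^ 3 - 1)) := by
      apply hfin
      have h1 : q ^ 3 - q = q * (q ^ 2 - 1) := by rw [Nat.mul_sub_one]; ring_nf
      have h2 : q ^ 3 - q ^ 2 = q ^ 2 * (q - 1) := by rw [Nat.mul_sub_one]; ring_nf
      calc (q - 1) * (Nat.gcd 3 (q - 1) * Nat.card S) = Nat.gcd 3 (q - 1) * ((q - 1) * Nat.card S) := by ring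
        _ = (q ^ 3 - q ^ 0) * (q ^ 3 - q ^ 1) * (q ^ 3 - q ^ 2) := by rw [hN, Fin.prod_univ_three]; rfl
        _ = (q - 1) * (q ^ 3 * ((q ^ 2 - 1) * (q ^ 3 - 1))) := by rw [pow_zero, pow_one, h1, h2]; ring
    obtain ⟨h2, h4⟩ := h3 rfl
    refine psl_three h2f ?_ hN'
    rcases gcd_three (a := q - 1) with h | ⟨h, h'⟩
    · exact Or.inl ⟨h, by omega⟩
    · exact Or.inr ⟨h, by omega⟩
  · have hd : Nat.gcd n (q - 1) ≤ q - 1 := Nat.gcd_le_right _ (by omega)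
    have hL := Num.psl_lower hq hn4 hd hN
    refine gen (q0 := 2) (c := 1) (c' := 1) (i := 2) (j := 12) hq ?_ (by simpa using hL) (by norm_num)
      (by norm_num) (by norm_num)
    have h1 : 2 * f * Nat.gcd n (q - 1) ≤ q * (q - 1) := Nat.mul_le_mul h2f hd
    have h2 : q * (q - 1) + q = q ^ 2 := by
      obtain ⟨k, hk⟩ : ∃ k, q = k + 1 := ⟨q - 1, by omega⟩
      rw [hk]
      simp only [Nat.add_sub_cancel]
      ring
    omega

theorem psp_num {q N o : ℕ} (hq : 3 ≤ q) (ho : o ≤ q) (hN : q ^ 4 * ((q ^ 2 - 1) * (q ^ 4 - 1)) ≤ 2 * N) :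
    64 * (o + 1) ^ 3 ≤ N := by
  refine three_aux (q := q) (d := 2) (M := q * ((q ^ 2 - 1) * (q ^ 4 - 1))) (M0 := 3 * ((3 ^ 2 - 1) * (3 ^ 4 - 1)))
    (a := 4) (b := 3) (by omega) ?_ ?_ (by norm_num) (by norm_num) (by norm_num)
  · calc q ^ 3 * (q * ((q ^ 2 - 1) * (q ^ 4 - 1))) = q ^ 4 * ((q ^ 2 - 1) * (q ^ 4 - 1)) := by ring
      _ ≤ 2 * N := hN
  · have h2 := Num.mono_pow 2 hq
    have h3 := Num.mono_pow 4 hq
    gcongr

/-- `n ≥ 6`, `q = 2` -/
theorem psu_two {n : ℕ} (hn : 6 ≤ n) : 2 ^ 15 * 1215 ≤ 2 ^ (n * (n - 1) / 2) *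
      ∏ i ∈ Finset.range n, (if Even i then 2 ^ (i + 1) + 1 else 2 ^ (i + 1) - 1) := by
  have h1 : ∏ i ∈ Finset.range 4, (if Even i then 2 ^ (i + 1) + 1 else 2 ^ (i + 1) - 1) ≤
      ∏ i ∈ Finset.range n, (if Even i then 2 ^ (i + 1) + 1 else 2 ^ (i + 1) - 1) := by
    refine Finset.prod_le_prod_of_subset_of_one_le' (Finset.range_mono (by omega)) fun i _ _ => ?_
    split_ifs
    · exact Nat.le_add_left 1 _
    · have h2 : 2 ^ i ≤ 2 ^ (i + 1) - 1 := Num.q_le_sq_sub le_rfl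
      exact le_trans (Nat.one_le_pow _ _ (by omega)) h2
  have h2 : 2 ^ 15 ≤ 2 ^ (n * (n - 1) / 2) := by
    apply Nat.pow_le_pow_right (by omega)
    have : 6 * 5 ≤ n * (n - 1) := Nat.mul_le_mul hn (by omega)
    omega
  have h3 : ∏ i ∈ Finset.range 4, (if Even i then 2 ^ (i + 1) + 1 else 2 ^ (i + 1) - 1) = 1215 := by decide
  rw [h3] at h1
  exact Nat.mul_le_mul h2 h1

/-- **`PSp_2m(q)`** -/
theorem small_psp {S : Type u} [Group S] [Finite S] [IsSimpleGroup S] (hna : ¬ IsMulCommutative S) (h : IsPSp S) :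
    OutSmall S := by
  obtain ⟨F, _, _, m, hm, hm2, ⟨e⟩⟩ := h
  obtain ⟨p, f, hp, hf, hF, h2f, hq⟩ := exists_pf F
  have : Fact p.Prime := ⟨hp⟩
  have hA := S0814.result p f hf hF m hm (fun h => hF ▸ hm2 h)
  have ho := card_out_of hna e hA
  have hN : Nat.gcd 2 (Fintype.card F - 1) * Nat.card (PSp m F) =
      (Fintype.card F) ^ (m ^ 2) * ∏ i ∈ Finset.range m, ((Fintype.card F) ^ (2 * (i + 1)) - 1) := by
    have h1 := S0245.result (F := F) rfl m
    have h2 := S0246.result (F := F) rfl m (by omega)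
    have h3 := Subgroup.card_eq_card_quotient_mul_card_subgroup
      (Subgroup.center (Matrix.symplecticGroup (Fin m) F))
    rw [h1, h2] at h3
    rw [h3, mul_comm]
  rw [← Nat.card_congr e.toEquiv] at hN
  unfold OutSmall
  rw [ho]
  have hL := Num.psp_lower hq hm (Nat.gcd_le_left _ (by norm_num)) hN
  have ho' : (if m = 2 ∧ p = 2 then 2 else 1) * Nat.gcd 2 (p ^ f - 1) * f ≤ Fintype.card F := by
    refine le_trans ?_ h2f
    rcases hp.eq_two_or_odd' with h2 | h2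
    · have hg : Nat.gcd 2 (p ^ f - 1) = 1 := by
        refine Nat.coprime_two_left.2 ?_
        rw [h2]
        obtain ⟨k, rfl⟩ : ∃ k, f = k + 1 := ⟨f - 1, by omega⟩
        have : 1 ≤ 2 ^ k := Nat.one_le_two_pow
        rw [pow_succ, Nat.odd_iff]
        omega
      rw [hg]
      split_ifs <;> omega
    · have h3 : ¬ (m = 2 ∧ p = 2) := by
        rintro ⟨-, rfl⟩
        exact absurd h2 (by decide)
      rw [if_neg h3, one_mul]
      exact Nat.mul_le_mul_right _ (Nat.gcd_le_left _ (by norm_num))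
  set o := (if m = 2 ∧ p = 2 then 2 else 1) * Nat.gcd 2 (p ^ f - 1) * f with hodef
  set q := Fintype.card F with hqdef
  rcases Nat.lt_or_ge q 3 with hq3 | hq3
  · have hq2 : q = 2 := by omega
    have hm3 : 3 ≤ m := by
      by_contra h
      have := hm2 (by omega)
      omega
    have hN1 : 2 ^ 9 * ((2 ^ 2 - 1) * (2 ^ 4 - 1)) ≤ q ^ (m ^ 2) * ∏ i ∈ Finset.range m, (q ^ (2 * (i + 1)) - 1) := by
      rw [hq2]
      refine Nat.mul_le_mul (Nat.pow_le_pow_right (by norm_num) (by nlinarith)) ?_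
      exact Num.prod_two_le le_rfl hm
    rw [← hN] at hN1
    have h2 : Nat.gcd 2 (q - 1) = 1 := by rw [hq2]; decide
    rw [h2, one_mul] at hN1
    have h3 : (o + 1) ^ 3 ≤ 3 ^ 3 := Nat.pow_le_pow_left (by omega) 3
    norm_num at hN1 h3
    omega
  · exact psp_num hq3 (by omega) hL

/-- **`PSU_n(q)`** -/
theorem small_psu {S : Type u} [Group S] [Finite S] [IsSimpleGroup S] (hna : ¬ IsMulCommutative S) (h : IsPSU S) :
    OutSmall S := by
  obtain ⟨F, _, _, n, q, hF, hn, hn2, ⟨e⟩⟩ := h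
  obtain ⟨K, _, _, hK⟩ := S0280.exists_field hF
  obtain ⟨p, f, hp, hf, hKpf, h2f, hq⟩ := exists_pf K
  rw [hK] at hKpf h2f hq
  have : Fact p.Prime := ⟨hp⟩
  have hA := S0815.result p f hf hKpf hF n hn hn2
  have ho := card_out_of hna e hA
  have hN := S0280.result hF n (by omega)
  rw [← Nat.card_congr e.toEquiv] at hN
  unfold OutSmall
  rw [ho]
  rcases Nat.lt_or_ge n 4 with hn4 | hn4
  · obtain rfl : n = 3 := by omega
    have hN' : Nat.gcd 3 (q + 1) * Nat.card S = q ^ 3 * ((q ^ 2 - 1) * (q ^ 3 + 1)) := by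
      have h0 : ∀ a b : ℕ, (q + 1) * a = (q + 1) * b → a = b := fun a b h => Nat.eq_of_mul_eq_mul_left (by omega) h
      apply h0
      calc (q + 1) * (Nat.gcd 3 (q + 1) * Nat.card S) = Nat.gcd 3 (q + 1) * ((q + 1) * Nat.card S) := by ring
        _ = q ^ 3 * ((q + 1) * (q ^ 2 - 1) * (q ^ 3 + 1)) := by
            rw [hN]
            simp [Finset.prod_range_succ, Nat.even_iff]
        _ = (q + 1) * (q ^ 3 * ((q ^ 2 - 1) * (q ^ 3 + 1))) := by ring
    have hq3 : 3 ≤ q := by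
      by_contra h
      exact hn2 ⟨rfl, by omega⟩
    rw [mul_comm (Nat.gcd 3 (q + 1)) (2 * f)]
    refine psu_three hq3 h2f ?_ hN'
    rcases gcd_three (a := q + 1) with h | ⟨h, h'⟩
    · exact Or.inl h
    · refine Or.inr ⟨h, ?_⟩
      rcases Nat.lt_or_ge q 8 with h8 | h8
      · right
        have hq5 : q = 5 := by omega
        refine ⟨hq5, ?_⟩
        have hf2 : f ≤ 2 := by omega
        interval_cases f
        · rfl
        · exfalso
          rw [hq5] at hKpf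
          have hp3 : p ≤ 3 := by
            by_contra hp3
            have : 4 ^ 2 ≤ p ^ 2 := Nat.pow_le_pow_left (by omega) 2
            omega
          interval_cases p <;> omega
      · exact Or.inl h8
  · have hd : Nat.gcd n (q + 1) ≤ q + 1 := Nat.gcd_le_right _ (by omega)
    have hL := Num.psu_lower hq hn4 hd hN
    rcases Nat.lt_or_ge q 3 with hq3 | hq3
    · have hq2 : q = 2 := by omega
      subst hq2
      have hf1 : f = 1 := by omega
      subst hf1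
      by_cases h3 : Nat.gcd n (2 + 1) = 1
      · rw [h3]
        norm_num at hL ⊢
        omega
      · have h3' : Nat.gcd n 3 = 3 := by
          rcases (Nat.dvd_prime Nat.prime_three).1 (Nat.gcd_dvd_right n 3) with h | h
          · exact absurd h h3
          · exact h
        have hn6 : 6 ≤ n := by
          have : 3 ∣ n := h3' ▸ Nat.gcd_dvd_left n 3
          omega
        have hN1 := psu_two hn6
        rw [← hN] at hN1
        have h4 : Nat.gcd n (2 + 1) = 3 := h3'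
        rw [h4] at hN1 ⊢
        omega
    · refine gen (q0 := 3) (c := 2) (c' := 1) (i := 2) (j := 12) hq3 ?_ (by simpa using hL) (by norm_num)
        (by norm_num) (by norm_num)
      have h1 : Nat.gcd n (q + 1) * (2 * f) ≤ (q + 1) * q := Nat.mul_le_mul hd h2f
      nlinarith

/-- **`PΩ_{2m+1}(q)`** -/
theorem small_omega_odd {S : Type u} [Group S] [Finite S] [IsSimpleGroup S] (hna : ¬ IsMulCommutative S)
    (h : IsPOmegaOdd S) : OutSmall S := by
  obtain ⟨F, _, _, m, hm, hodd, ⟨e⟩⟩ := h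
  obtain ⟨p, f, hp, hf, hF, h2f, hq⟩ := exists_pf F
  have : Fact p.Prime := ⟨hp⟩
  have hpo : Odd p := by
    rcases hp.eq_two_or_odd' with h2 | h2
    · exfalso
      rw [hF, h2, Nat.odd_pow_iff (by omega)] at hodd
      exact absurd hodd (by decide)
    · exact h2
  have hA := S0816.result p f hf hF hpo m hm
  have ho := card_out_of hna e hA
  have hN := S0292.result (F := F) rfl hodd m hm
  rw [← Nat.card_congr e.toEquiv] at hN
  unfold OutSmall
  rw [ho]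
  have hL := Num.psp_lower hq (by omega) le_rfl hN
  have hq3 : 3 ≤ Fintype.card F := by
    obtain ⟨k, hk⟩ := hodd
    omega
  exact psp_num hq3 h2f hL

/-- **`PΩ⁺_{2m}(q)`** -/
theorem small_omega_plus {S : Type u} [Group S] [Finite S] [IsSimpleGroup S] (hna : ¬ IsMulCommutative S)
    (h : IsPOmegaPlus S) : OutSmall S := by
  obtain ⟨F, _, _, m, hm, ⟨e⟩⟩ := h
  obtain ⟨p, f, hp, hf, hF, h2f, hq⟩ := exists_pf F
  have : Fact p.Prime := ⟨hp⟩
  have hA := S0817.result p f hf hF m hm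
  have ho := card_out_of hna e hA
  have hN := S0293.result (F := F) rfl m hm
  rw [← Nat.card_congr e.toEquiv] at hN
  unfold OutSmall
  rw [ho]
  set q := Fintype.card F with hqdef
  have h1 : q ^ 12 * q ^ 3 * ((q ^ 2 - 1) * (q ^ 4 - 1)) ≤ 4 * Nat.card S := by
    calc q ^ 12 * q ^ 3 * ((q ^ 2 - 1) * (q ^ 4 - 1))
        ≤ q ^ (m * (m - 1)) * (q ^ m - 1) * ∏ i ∈ Finset.range (m - 1), (q ^ (2 * (i + 1)) - 1) := by
          refine Nat.mul_le_mul (Nat.mul_le_mul (Nat.pow_le_pow_right (by omega) ?_) ?_) (Num.prod_two_le hq (by omega))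
          · calc 12 = 4 * 3 := by norm_num
              _ ≤ m * (m - 1) := Nat.mul_le_mul hm (by omega)
          · have h4 : q ^ 4 ≤ q ^ m := Nat.pow_le_pow_right (by omega) hm
            have h5 : q ^ 3 ≤ q ^ 4 - 1 := Num.q_le_sq_sub hq
            omega
      _ = Nat.gcd 4 (q ^ m - 1) * Nat.card S := hN.symm
      _ ≤ 4 * Nat.card S := Nat.mul_le_mul_right _ (Nat.gcd_le_left _ (by norm_num))
  have h2 : q ^ 1 ≤ q ^ 2 - 1 := Num.q_le_sq_sub hq
  have h3 : q ^ 3 ≤ q ^ 4 - 1 := Num.q_le_sq_sub hq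
  have h19 : q ^ 19 ≤ 4 * Nat.card S := by
    calc q ^ 19 = q ^ 12 * q ^ 3 * (q ^ 1 * q ^ 3) := by ring
      _ ≤ q ^ 12 * q ^ 3 * ((q ^ 2 - 1) * (q ^ 4 - 1)) := Nat.mul_le_mul_left _ (Nat.mul_le_mul h2 h3)
      _ ≤ 4 * Nat.card S := h1
  rcases Nat.lt_or_ge q 3 with hq3 | hq3
  · have hq2 : q = 2 := by omega
    have hf1 : f = 1 := by omega
    have hp2 : p = 2 := by
      rw [hf1, pow_one] at hF
      omega
    have h4 : (if m = 4 then 3 else 1) * (if p = 2 then 2 else (if Even (m * (p ^ f - 1) / 2) then 8 else 4)) * f ≤ 6 := by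
      rw [if_pos hp2, hf1]
      split_ifs <;> omega
    refine gen (q0 := 2) (q := 2) (c := 7) (c' := 4) (i := 0) (j := 19) le_rfl (by omega) (by rwa [hq2] at h19) (by norm_num)
      (by norm_num) (by norm_num)
  · refine gen (q0 := 3) (c := 13) (c' := 4) (i := 1) (j := 19) hq3 ?_ h19 (by norm_num)
      (by norm_num) (by norm_num)
    have h4 : (if m = 4 then 3 else 1) * (if p = 2 then 2 else (if Even (m * (p ^ f - 1) / 2) then 8 else 4)) ≤ 3 * 8 :=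
      Nat.mul_le_mul (by split_ifs <;> omega) (by split_ifs <;> omega)
    have h5 : (if m = 4 then 3 else 1) * (if p = 2 then 2 else (if Even (m * (p ^ f - 1) / 2) then 8 else 4)) * f
        ≤ 12 * q := by
      calc (if m = 4 then 3 else 1) * (if p = 2 then 2 else (if Even (m * (p ^ f - 1) / 2) then 8 else 4)) * f
        ≤ 3 * 8 * f := Nat.mul_le_mul_right _ h4
        _ = 12 * (2 * f) := by ring
        _ ≤ 12 * q := Nat.mul_le_mul_left _ h2f
    rw [pow_one]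
    omega

/-- **`PΩ⁻_{2m}(q)`** -/
theorem small_omega_minus {S : Type u} [Group S] [Finite S] [IsSimpleGroup S] (hna : ¬ IsMulCommutative S)
    (h : IsPOmegaMinus S) : OutSmall S := by
  obtain ⟨F, _, _, m, a, b, hm, hab, ⟨e⟩⟩ := h
  obtain ⟨p, f, hp, hf, hF, h2f, hq⟩ := exists_pf F
  have : Fact p.Prime := ⟨hp⟩
  have hA := S0818.result p f hf hF m hm a b hab
  have ho := card_out_of hna e hA
  have hN := S0294.result (F := F) rfl m hm a b hab
  rw [← Nat.card_congr e.toEquiv] at hN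
  unfold OutSmall
  rw [ho]
  set q := Fintype.card F with hqdef
  have h1 : q ^ 12 * 1 * ((q ^ 2 - 1) * (q ^ 4 - 1)) ≤ 4 * Nat.card S := by
    calc q ^ 12 * 1 * ((q ^ 2 - 1) * (q ^ 4 - 1))
        ≤ q ^ (m * (m - 1)) * (q ^ m + 1) * ∏ i ∈ Finset.range (m - 1), (q ^ (2 * (i + 1)) - 1) := by
          refine Nat.mul_le_mul (Nat.mul_le_mul (Nat.pow_le_pow_right (by omega) ?_) ?_) (Num.prod_two_le hq (by omega))
          · calc 12 = 4 * 3 := by norm_num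
              _ ≤ m * (m - 1) := Nat.mul_le_mul hm (by omega)
          · omega
      _ = Nat.gcd 4 (q ^ m + 1) * Nat.card S := hN.symm
      _ ≤ 4 * Nat.card S := Nat.mul_le_mul_right _ (Nat.gcd_le_left _ (by norm_num))
  have h2 : q ^ 1 ≤ q ^ 2 - 1 := Num.q_le_sq_sub hq
  have h3 : q ^ 3 ≤ q ^ 4 - 1 := Num.q_le_sq_sub hq
  have h16 : q ^ 16 ≤ 4 * Nat.card S := by
    calc q ^ 16 = q ^ 12 * 1 * (q ^ 1 * q ^ 3) := by ring
      _ ≤ q ^ 12 * 1 * ((q ^ 2 - 1) * (q ^ 4 - 1)) := Nat.mul_le_mul_left _ (Nat.mul_le_mul h2 h3)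
      _ ≤ 4 * Nat.card S := h1
  rcases Nat.lt_or_ge q 3 with hq3 | hq3
  · have hq2 : q = 2 := by omega
    have hf1 : f = 1 := by omega
    have hp2 : p = 2 := by
      rw [hf1, pow_one] at hF
      omega
    rw [if_pos hp2, hf1]
    refine gen (q0 := 2) (q := 2) (c := 3) (c' := 4) (i := 0) (j := 16) le_rfl (by omega) (by rwa [hq2] at h16) (by norm_num)
      (by norm_num) (by norm_num)
  · refine gen (q0 := 3) (c := 5) (c' := 4) (i := 1) (j := 16) hq3 ?_ h16 (by norm_num)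
      (by norm_num) (by norm_num)
    have h4 : (if p = 2 then 2 else (if Even (m * (p ^ f - 1) / 2) then 4 else 8)) ≤ 8 := by
      split_ifs <;> omega
    have h5 : (if p = 2 then 2 else (if Even (m * (p ^ f - 1) / 2) then 4 else 8)) * f ≤ 4 * q := by
      calc (if p = 2 then 2 else (if Even (m * (p ^ f - 1) / 2) then 4 else 8)) * f
          ≤ 8 * f := Nat.mul_le_mul_right _ h4
        _ = 4 * (2 * f) := by ring
        _ ≤ 4 * q := Nat.mul_le_mul_left _ h2f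
    rw [pow_one]
    omega

/-! ### the exceptional groups -/

/-- `a ≤ q ^ k - 1` -/
theorem sub_ge {q k a : ℕ} (hq : 2 ≤ q) (hk : k = a + 1) : q ^ a ≤ q ^ k - 1 := by
  subst hk
  exact Num.q_le_sq_sub hq

/-- **`G₂(q)`** -/
theorem small_g2 {S : Type u} [Group S] (h : IsoChevG2 S) : OutSmall S := by
  obtain ⟨F, _, _, h3, ⟨e⟩⟩ := h
  obtain ⟨p, f, hp, hf, hF, h2f, hq⟩ := exists_pf F
  have : Fact p.Prime := ⟨hp⟩
  have := charP_of hp hf hF
  refine OutSmall.congr e ?_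
  unfold OutSmall
  rw [S2121.result p f hF (hF ▸ h3), S1059.result (F := F) rfl]
  set q := Fintype.card F
  refine gen (q0 := 3) (c := 2) (c' := 1) (i := 1) (j := 12) h3 ?_ ?_ (by norm_num)
    (by norm_num) (by norm_num)
  · rw [pow_one]; split_ifs <;> omega
  · calc q ^ 12 = 1 * (q ^ 6 * q ^ 1 * q ^ 5) := by ring
      _ ≤ 1 * (q ^ 6 * (q ^ 2 - 1) * (q ^ 6 - 1)) := Nat.mul_le_mul_left _ (Nat.mul_le_mul
          (Nat.mul_le_mul_left _ (sub_ge hq rfl)) (sub_ge hq rfl))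

/-- **`F₄(q)`** -/
theorem small_f4 {S : Type u} [Group S] (h : IsoF4 S) : OutSmall S := by
  obtain ⟨F, _, _, ⟨e⟩⟩ := h
  obtain ⟨p, f, hp, hf, hF, h2f, hq⟩ := exists_pf F
  have : Fact p.Prime := ⟨hp⟩
  have := charP_of hp hf hF
  refine OutSmall.congr e ?_
  unfold OutSmall
  rw [S2122.result p f hF, S1062.result (F := F) rfl]
  set q := Fintype.card F
  refine gen (q0 := 2) (c := 2) (c' := 1) (i := 1) (j := 24) hq ?_ ?_ (by norm_num)
    (by norm_num) (by norm_num)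
  · rw [pow_one]
    have h1 := (Nat.mul_le_mul_right f (Nat.gcd_le_left p (show 0 < 2 by norm_num))).trans h2f
    omega
  · calc q ^ 24 = 1 * (q ^ 24 * 1 * 1 * 1 * 1) := by ring
      _ ≤ 1 * (q ^ 24 * (q ^ 2 - 1) * (q ^ 6 - 1) * (q ^ 8 - 1) * (q ^ 12 - 1)) := by
          gcongr <;> exact sub_pos hq (by norm_num)

/-- **`E₆(q)`** -/
theorem small_e6 {S : Type u} [Group S] (h : IsoChevE6 S) : OutSmall S := by
  obtain ⟨F, _, _, ⟨e⟩⟩ := h
  obtain ⟨p, f, hp, hf, hF, h2f, hq⟩ := exists_pf F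
  have : Fact p.Prime := ⟨hp⟩
  have := charP_of hp hf hF
  refine OutSmall.congr e ?_
  unfold OutSmall
  rw [S2123.result p f hF]
  have hN := S1063.result (F := F) rfl
  set q := Fintype.card F
  refine gen (q0 := 2) (c := 4) (c' := 3) (i := 1) (j := 36) hq ?_ ?_ (by norm_num)
    (by norm_num) (by norm_num)
  · have h1 : 2 * Nat.gcd 3 (p ^ f - 1) * f ≤ 3 * q := by
      calc 2 * Nat.gcd 3 (p ^ f - 1) * f = Nat.gcd 3 (p ^ f - 1) * (2 * f) := by ring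
        _ ≤ 3 * q := Nat.mul_le_mul (Nat.gcd_le_left _ (by norm_num)) h2f
    rw [pow_one]
    omega
  · calc q ^ 36 = q ^ 36 * 1 * 1 * 1 * 1 * 1 * 1 := by ring
      _ ≤ q ^ 36 * (q ^ 2 - 1) * (q ^ 5 - 1) * (q ^ 6 - 1) * (q ^ 8 - 1) * (q ^ 9 - 1) * (q ^ 12 - 1) := by
          gcongr <;> exact sub_pos hq (by norm_num)
      _ = Nat.gcd 3 (q - 1) * Nat.card (chevE6.group F) := hN.symm
      _ ≤ 3 * Nat.card (chevE6.group F) := Nat.mul_le_mul_right _ (Nat.gcd_le_left _ (by norm_num))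

/-- **`E₇(q)`** -/
theorem small_e7 {S : Type u} [Group S] (h : IsoE7 S) : OutSmall S := by
  obtain ⟨F, _, _, ⟨e⟩⟩ := h
  obtain ⟨p, f, hp, hf, hF, h2f, hq⟩ := exists_pf F
  have : Fact p.Prime := ⟨hp⟩
  have := charP_of hp hf hF
  refine OutSmall.congr e ?_
  unfold OutSmall
  rw [S2124.result p f hF]
  have hN := S1064.result (F := F) rfl
  set q := Fintype.card F
  refine gen (q0 := 2) (c := 2) (c' := 2) (i := 1) (j := 63) hq ?_ ?_ (by norm_num)
    (by norm_num) (by norm_num)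
  · have h1 := (Nat.mul_le_mul_right f (Nat.gcd_le_left (p ^ f - 1) (show 0 < 2 by norm_num))).trans h2f
    rw [pow_one]
    omega
  · calc q ^ 63 = q ^ 63 * 1 * 1 * 1 * 1 * 1 * 1 * 1 := by ring
      _ ≤ q ^ 63 * (q ^ 2 - 1) * (q ^ 6 - 1) * (q ^ 8 - 1) * (q ^ 10 - 1) * (q ^ 12 - 1) * (q ^ 14 - 1) *
          (q ^ 18 - 1) := by
          gcongr <;> exact sub_pos hq (by norm_num)
      _ = Nat.gcd 2 (q - 1) * Nat.card (chevE7.group F) := hN.symm
      _ ≤ 2 * Nat.card (chevE7.group F) := Nat.mul_le_mul_right _ (Nat.gcd_le_left _ (by norm_num))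

/-- **`E₈(q)`** -/
theorem small_e8 {S : Type u} [Group S] (h : IsoE8 S) : OutSmall S := by
  obtain ⟨F, _, _, ⟨e⟩⟩ := h
  obtain ⟨p, f, hp, hf, hF, h2f, hq⟩ := exists_pf F
  have : Fact p.Prime := ⟨hp⟩
  have := charP_of hp hf hF
  refine OutSmall.congr e ?_
  unfold OutSmall
  rw [S2125.result p f hF, S1065.result (F := F) rfl]
  set q := Fintype.card F
  refine gen (q0 := 2) (c := 1) (c' := 1) (i := 1) (j := 120) hq ?_ ?_ (by norm_num)
    (by norm_num) (by norm_num)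
  · rw [one_mul, pow_one]; omega
  · calc q ^ 120 = 1 * (q ^ 120 * 1 * 1 * 1 * 1 * 1 * 1 * 1 * 1) := by ring
      _ ≤ 1 * (q ^ 120 * (q ^ 2 - 1) * (q ^ 8 - 1) * (q ^ 12 - 1) * (q ^ 14 - 1) * (q ^ 18 - 1) * (q ^ 20 - 1) *
          (q ^ 24 - 1) * (q ^ 30 - 1)) := by
          gcongr <;> exact sub_pos hq (by norm_num)

/-- **`²E₆(q)`** -/
theorem small_2e6 {S : Type u} [Group S] (h : Iso2E6 S) : OutSmall S := by
  obtain ⟨K, _, _, q, hqp, hK, ⟨e⟩⟩ := h
  obtain ⟨p, f, hp, hc, hf, hqf, hKf, h2f, hq⟩ := exists_pf_of hqp hK (by norm_num)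
  have : Fact p.Prime := ⟨hp⟩
  refine OutSmall.congr e ?_
  unfold OutSmall
  have hN := S1066.result hqp hK
  have ho := S2130.result p f hKf hf
  rw [← hqf] at ho
  rw [ho]
  refine gen (q0 := 2) (c := 4) (c' := 3) (i := 1) (j := 36) hq ?_ ?_ (by norm_num)
    (by norm_num) (by norm_num)
  · have h1 : 2 * Nat.gcd 3 (q + 1) * f ≤ 3 * q := by
      calc 2 * Nat.gcd 3 (q + 1) * f = Nat.gcd 3 (q + 1) * (2 * f) := by ring
        _ ≤ 3 * q := Nat.mul_le_mul (Nat.gcd_le_left _ (by norm_num)) h2f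
    rw [pow_one]
    omega
  · calc q ^ 36 = q ^ 36 * 1 * 1 * 1 * 1 * 1 * 1 := by ring
      _ ≤ q ^ 36 * (q ^ 2 - 1) * (q ^ 5 + 1) * (q ^ 6 - 1) * (q ^ 8 - 1) * (q ^ 9 + 1) * (q ^ 12 - 1) := by
          gcongr <;> first | exact sub_pos hq (by norm_num) | omega
      _ = Nat.gcd 3 (q + 1) * Nat.card (twistedE6 K q) := hN.symm
      _ ≤ 3 * Nat.card (twistedE6 K q) := Nat.mul_le_mul_right _ (Nat.gcd_le_left _ (by norm_num))

/-- **`³D₄(q)`** -/
theorem small_3d4 {S : Type u} [Group S] (h : Iso3D4 S) : OutSmall S := by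
  obtain ⟨K, _, _, q, hqp, hK, ⟨e⟩⟩ := h
  obtain ⟨p, f, hp, hc, hf, hqf, hKf, h2f, hq⟩ := exists_pf_of hqp hK (by norm_num)
  have : Fact p.Prime := ⟨hp⟩
  refine OutSmall.congr e ?_
  unfold OutSmall
  have hN := S1067.result hqp hK
  have ho := S2129.result p f hKf hf
  rw [← hqf] at ho
  rw [ho, hN]
  refine gen (q0 := 2) (c := 2) (c' := 1) (i := 1) (j := 12) hq ?_ ?_ (by norm_num)
    (by norm_num) (by norm_num)
  · rw [pow_one]; omega
  · calc q ^ 12 = 1 * (q ^ 12 * 1 * 1 * 1) := by ring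
      _ ≤ 1 * (q ^ 12 * (q ^ 2 - 1) * (q ^ 6 - 1) * (q ^ 8 + q ^ 4 + 1)) := by
          gcongr <;> first | exact sub_pos hq (by norm_num) | omega

/-- **`Sz(q)`** -/
theorem small_sz {S : Type u} [Group S] (h : IsoSuzuki S) : OutSmall S := by
  obtain ⟨F, _, _, m, hm, hF, ⟨e⟩⟩ := h
  refine OutSmall.congr e ?_
  unfold OutSmall
  rw [S2126.result hm hF, (S1163.result hm hF).1]
  have h8 : 8 ≤ 2 ^ (2 * m + 1) := pow_ge (p := 2) le_rfl hm
  have h2f : 2 * (2 * m + 1) ≤ 2 ^ (2 * m + 1) := two_mul_le' le_rfl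
  set q := 2 ^ (2 * m + 1)
  have hq : 2 ≤ q := by omega
  have h0 : 8 * (2 * m + 1 + 1) ≤ 5 * q := by omega
  refine three_aux (q := q) (d := 1) (M := 7 * q) (M0 := 56) h0 ?_ (by omega) (by norm_num) (by norm_num) (by norm_num)
  calc q ^ 3 * (7 * q) = 1 * (q ^ 2 * 7 * q ^ 2) := by ring
      _ ≤ 1 * (q ^ 2 * (q - 1) * (q ^ 2 + 1)) := by
          gcongr <;> omega
      _ = _ := by ring

/-- **`²G₂(q)`** -/
theorem small_ree {S : Type u} [Group S] (h : IsoRee S) : OutSmall S := by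
  obtain ⟨F, _, _, m, hm, hF, ⟨e⟩⟩ := h
  refine OutSmall.congr e ?_
  unfold OutSmall
  rw [S2127.result hm hF, S1069.result hF]
  have h8 : 27 ≤ 3 ^ (2 * m + 1) := pow_ge (p := 3) (by norm_num) hm
  have h2f : 2 * (2 * m + 1) ≤ 3 ^ (2 * m + 1) := two_mul_le' (by norm_num)
  set q := 3 ^ (2 * m + 1)
  have hq : 2 ≤ q := by omega
  refine gen (q0 := 27) (c := 1) (c' := 1) (i := 1) (j := 6) h8 ?_ ?_ (by norm_num)
    (by norm_num) (by norm_num)
  · rw [one_mul, pow_one]; omega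
  · calc q ^ 6 = 1 * (q ^ 3 * 1 * q ^ 3) := by ring
      _ ≤ 1 * (q ^ 3 * (q - 1) * (q ^ 3 + 1)) := by
          gcongr <;> omega

/-- **`²F₄(q)`** -/
theorem small_2f4 {S : Type u} [Group S] (h : Iso2F4 S) : OutSmall S := by
  obtain ⟨F, _, _, m, hm, hF, ⟨e⟩⟩ := h
  refine OutSmall.congr e ?_
  unfold OutSmall
  rw [S2128.result hm hF, S1068.result hF]
  have h8 : 8 ≤ 2 ^ (2 * m + 1) := pow_ge (p := 2) le_rfl hm
  have h2f : 2 * (2 * m + 1) ≤ 2 ^ (2 * m + 1) := two_mul_le' le_rfl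
  set q := 2 ^ (2 * m + 1)
  have hq : 2 ≤ q := by omega
  refine gen (q0 := 8) (c := 1) (c' := 1) (i := 1) (j := 12) h8 ?_ ?_ (by norm_num)
    (by norm_num) (by norm_num)
  · rw [one_mul, pow_one]; omega
  · calc q ^ 12 = 1 * (q ^ 12 * 1 * 1 * 1 * 1) := by ring
      _ ≤ 1 * (q ^ 12 * (q - 1) * (q ^ 3 + 1) * (q ^ 4 - 1) * (q ^ 6 + 1)) := by
          gcongr <;> first | exact sub_pos hq (by norm_num) | omega

/-- **All families.** -/
theorem outSmall_lie {r : ℕ} {S : Type u} [Group S] [Finite S] [IsSimpleGroup S] (hna : ¬ IsMulCommutative S)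
    (h : Cfsg.IsLieTypeChar r S) : OutSmall S ∨
    (∃ (F : Type) (_ : Field F) (_ : Fintype F), CharP F r ∧
      Nonempty (S ≃* Matrix.ProjectiveSpecialLinearGroup (Fin 2) F) ∧ 4 ≤ Fintype.card F) ∨
    (∃ (F : Type) (_ : Field F) (_ : Fintype F), (Fintype.card F = 2 ∨ Fintype.card F = 4) ∧
      Nonempty (S ≃* Matrix.ProjectiveSpecialLinearGroup (Fin 3) F)) := by
  rcases h with h | h | h | h | h | h | h | h | h | h | h
  · obtain ⟨F, _, _, hc, n, hn, hn2, ⟨e⟩⟩ := h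
    by_cases h2 : n = 2
    · subst h2
      exact Or.inr (Or.inl ⟨F, _, _, hc, ⟨e⟩, hn2 rfl⟩)
    by_cases h3 : n = 3 ∧ (Fintype.card F = 2 ∨ Fintype.card F = 4)
    · obtain ⟨rfl, h4⟩ := h3
      exact Or.inr (Or.inr ⟨F, _, _, h4, ⟨e⟩⟩)
    · exact Or.inl (small_psl hna (by omega) (fun h5 => ⟨fun h6 => h3 ⟨h5, Or.inl h6⟩, fun h6 => h3 ⟨h5, Or.inr h6⟩⟩) e)
  · obtain ⟨F, i1, i2, _, m, hm⟩ := h
    exact Or.inl (small_psp hna ⟨F, i1, i2, m, hm⟩)
  · obtain ⟨F, i1, i2, _, n, q, hm⟩ := h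
    exact Or.inl (small_psu hna ⟨F, i1, i2, n, q, hm⟩)
  · obtain ⟨F, i1, i2, _, m, hm⟩ := h
    exact Or.inl (small_omega_odd hna ⟨F, i1, i2, m, hm⟩)
  · obtain ⟨F, i1, i2, _, m, hm⟩ := h
    exact Or.inl (small_omega_plus hna ⟨F, i1, i2, m, hm⟩)
  · obtain ⟨F, i1, i2, _, m, a, b, hm⟩ := h
    exact Or.inl (small_omega_minus hna ⟨F, i1, i2, m, a, b, hm⟩)
  · obtain ⟨F, i1, i2, _, h | h | h | h | h⟩ := h
    · exact Or.inl (small_g2 ⟨F, i1, i2, h⟩)
    · exact Or.inl (small_f4 ⟨F, i1, i2, h⟩)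
    · exact Or.inl (small_e6 ⟨F, i1, i2, h⟩)
    · exact Or.inl (small_e7 ⟨F, i1, i2, h⟩)
    · exact Or.inl (small_e8 ⟨F, i1, i2, h⟩)
  · obtain ⟨K, i1, i2, _, q, hq, ⟨hK, h⟩ | ⟨hK, h⟩⟩ := h
    · exact Or.inl (small_2e6 ⟨K, i1, i2, q, hq, hK, h⟩)
    · exact Or.inl (small_3d4 ⟨K, i1, i2, q, hq, hK, h⟩)
  · exact Or.inl (small_sz h.2)
  · exact Or.inl (small_2f4 h.2)
  · exact Or.inl (small_ree h.2)

end Cfsg.Agent.H505.S4906
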